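import Cfsg.Agent.H948.Rg.Miss
import Cfsg.Agent.H141.Rg.Defs

/-!
# S5714, `PSp_4(q)`: the normal sets

`nf_psp4` : `FamNF` for the groups `PSp_4(q)`.
-/

set_option autoImplicit false

namespace Cfsg.Agent.H948.Rg

open Cfsg Cfsg.Geo
open Cfsg.Agent.H618.Dp Cfsg.Agent.H141.Rg Cfsg.Agent.OrdDiv Cfsg.Agent.H436
open Cfsg.Agent.ClassicalGeometry.SympBasic Cfsg.Agent.H876 Cfsg.Agent.H931
open Cfsg.Agent.H262.El (pre mem_pre pre_le)
open Cfsg.Agent.H884.El (PP)
open scoped Matrix MatrixGroups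

section gen

variable {F : Type*} [Field F] {m : ℕ}

/-- the density of an image in `PSp` -/
theorem img_count [Finite F] (E : Set (spGL m F)) :
    Nat.card E * Nat.card (PSp m F) ≤ Nat.card (prj (m := m) (F := F) '' E : Set (PSp m F)) * Nat.card (spGL m F) := by
  classical
  have hfin : Finite (GL (Fin m ⊕ Fin m) F) := inferInstance
  have hfinT : Finite (PSp m F) := Finite.of_surjective _ (prj_surjective (m := m) (F := F))
  have h1 : Nat.card E ≤ Nat.card (prj (m := m) (F := F) '' E : Set (PSp m F)) *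
      Nat.card (prj (m := m) (F := F)).ker := by
    rw [← Nat.card_prod]
    refine Nat.card_le_card_of_injective (fun x : E =>
      ((⟨prj x.1, ⟨x.1, x.2, rfl⟩⟩, ⟨(Function.surjInv prj_surjective (prj x.1))⁻¹ * x.1, by
        rw [MonoidHom.mem_ker, map_mul, map_inv, Function.surjInv_eq prj_surjective, inv_mul_cancel]⟩) :
        (prj (m := m) (F := F) '' E : Set (PSp m F)) × (prj (m := m) (F := F)).ker)) ?_
    intro x y hxy
    have e1 : prj x.1 = prj y.1 := congrArg Subtype.val (congrArg Prod.fst hxy)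
    have e2 := congrArg Subtype.val (congrArg Prod.snd hxy)
    simp only at e2
    rw [e1] at e2
    exact Subtype.ext (mul_left_cancel e2)
  calc Nat.card E * Nat.card (PSp m F)
      ≤ Nat.card (prj (m := m) (F := F) '' E : Set (PSp m F)) * Nat.card (prj (m := m) (F := F)).ker *
        Nat.card (PSp m F) := Nat.mul_le_mul_right _ h1
    _ = _ := by rw [mul_assoc, card_ker]

end gen

variable {F : Type} [Field F] [Fintype F] {R : Subgroup (PSp 2 F)}

/-- the images of the conjugates of `X S`, `S ∈ P` -/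
def EP (P : Finset (Fin 2 → F)) : Set (PSp 2 F) :=
  prj (m := 2) (F := F) '' {x : spGL 2 F | ∃ S ∈ P, ∃ g : spGL 2 F, g * XS S * g⁻¹ = x}

theorem cinv_EP (P : Finset (Fin 2 → F)) : CInv (EP P) := by
  rintro _ ⟨_, ⟨S, hS, g, rfl⟩, rfl⟩ h
  obtain ⟨y, rfl⟩ := prj_surjective h
  refine ⟨y * g * XS S * (y * g)⁻¹, ⟨S, hS, y * g, rfl⟩, ?_⟩
  rw [← map_mul, ← map_inv, ← map_mul]
  congr 1
  group

theorem card_EP {P : Finset (Fin 2 → F)} (hP : ∀ S ∈ P, S 0 ≠ S 1) (h16 : Fintype.card F ^ 2 ≤ 16 * P.card) :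
    Nat.card (PSp 2 F) ≤ 128 * Nat.card (EP P) := by
  have hfin : Finite (GL I4 F) := inferInstance
  have h1 := family_count P hP
  have h2 := img_count {x : spGL 2 F | ∃ S ∈ P, ∃ g : spGL 2 F, g * XS S * g⁻¹ = x}
  set A := Nat.card {x : spGL 2 F // ∃ S ∈ P, ∃ g : spGL 2 F, g * XS S * g⁻¹ = x} with hA
  have h2' : A * Nat.card (PSp 2 F) ≤ Nat.card (EP P) * Nat.card (spGL 2 F) := h2
  have h3 : 0 < Nat.card (spGL 2 F) := Nat.card_pos
  have h4 : 0 < Nat.card F ^ 2 := pow_pos Nat.card_pos 2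
  rw [← Nat.card_eq_fintype_card] at h16
  refine Nat.le_of_mul_le_mul_left (?_ : Nat.card F ^ 2 * Nat.card (spGL 2 F) * _ ≤ _) (Nat.mul_pos h4 h3)
  calc Nat.card F ^ 2 * Nat.card (spGL 2 F) * Nat.card (PSp 2 F)
      ≤ 16 * P.card * Nat.card (spGL 2 F) * Nat.card (PSp 2 F) :=
        Nat.mul_le_mul_right _ (Nat.mul_le_mul_right _ h16)
    _ = 16 * (P.card * Nat.card (spGL 2 F)) * Nat.card (PSp 2 F) := by ring
    _ ≤ 16 * (8 * Nat.card F ^ 2 * A) * Nat.card (PSp 2 F) :=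
        Nat.mul_le_mul_right _ (Nat.mul_le_mul_left _ h1)
    _ = 128 * Nat.card F ^ 2 * (A * Nat.card (PSp 2 F)) := by ring
    _ ≤ 128 * Nat.card F ^ 2 * (Nat.card (EP P) * Nat.card (spGL 2 F)) := Nat.mul_le_mul_left _ h2'
    _ = _ := by ring

theorem miss_EP {P : Finset (Fin 2 → F)} (h : MissP P R) : ∀ x ∈ R, x ∉ EP P := by
  rintro _ hx ⟨_, ⟨S, hS, g, rfl⟩, rfl⟩
  exact h S hS g ((mem_pre_iff _).2 hx)

/-- the elements whose order is divisible by the full power of `u` -/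
def EU (F : Type) [Field F] (u : ℕ) : Set (PSp 2 F) :=
  {y | u ^ (Nat.card (PSp 2 F)).factorization u ∣ orderOf y}

theorem cinv_EU (u : ℕ) : CInv (EU F u) := by
  intro x hx g
  have h5 : orderOf (g * x * g⁻¹) = orderOf x := by
    have := orderOf_injective (MulAut.conj g).toMonoidHom (MulAut.conj g).injective x
    simpa using this
  show _ ∣ orderOf (g * x * g⁻¹)
  rw [h5]
  exact hx

theorem card_EU {u : ℕ} (hu : PP (Nat.card F) 4 u) (hd : u ∣ Nat.card (PSp 2 F)) :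
    Nat.card (PSp 2 F) ≤ 8 * Nat.card (EU F u) := by
  have hfin : Finite (GL (Fin 2 ⊕ Fin 2) F) := inferInstance
  have hfinT : Finite (PSp 2 F) := Finite.of_surjective _ (prj_surjective (m := 2) (F := F))
  have := Fact.mk hu.prime
  have hu2 : Odd u := hu.odd (by omega)
  set j := (Nat.card (PSp 2 F)).factorization u with hj
  have hne : Nat.card (PSp 2 F) ≠ 0 := Nat.card_pos.ne'
  have hj1 : 1 ≤ j := (hu.prime.dvd_iff_one_le_factorization hne).1 hd
  have hjd : u ^ j ∣ Nat.card (PSp 2 F) := Nat.ordProj_dvd _ _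
  have h1 : u ^ j ∣ Nat.card (spGL 2 F) := hjd.trans (by rw [← card_ker]; exact dvd_mul_left _ _)
  have h2 := Cfsg.Agent.H851.Dg.sing_pow (F := F) (hu.ne0 (by omega)) (spGL 2 F).subtype (spGL 2 F).subtype_injective
    (cycP (m := 2) hu) hj1 h1
  rw [card_sum_fin] at h2
  have h3 := img_count {x : spGL 2 F | u ^ j ∣ orderOf x}
  have h4 : Nat.card (prj (m := 2) (F := F) '' {x : spGL 2 F | u ^ j ∣ orderOf x} : Set (PSp 2 F)) ≤
      Nat.card (EU F u) := by
    apply Nat.card_mono (Set.toFinite _)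
    rintro _ ⟨x, hx, rfl⟩
    have h5 : u ^ j ∣ orderOf x := hx
    have h6 : orderOf x ∣ orderOf (prj x) * Nat.card (prj (m := 2) (F := F)).ker := by
      apply orderOf_dvd_of_pow_eq_one
      rw [pow_mul]
      have h7 : x ^ orderOf (prj x) ∈ (prj (m := 2) (F := F)).ker := by
        rw [MonoidHom.mem_ker, map_pow, pow_orderOf_eq_one]
      have h8 := pow_card_eq_one' (x := (⟨_, h7⟩ : (prj (m := 2) (F := F)).ker))
      exact congrArg Subtype.val h8
    have h7 : Nat.Coprime (u ^ j) (Nat.card (prj (m := 2) (F := F)).ker) :=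
      Nat.Coprime.pow_left _ (Nat.Coprime.coprime_dvd_right (card_ker_dvd (by norm_num)) (Nat.coprime_two_right.2 hu2))
    exact h7.dvd_of_dvd_mul_right (h5.trans h6)
  have h5 : 0 < Nat.card (spGL 2 F) := Nat.card_pos
  refine Nat.le_of_mul_le_mul_right (?_ : _ * Nat.card (spGL 2 F) ≤ _) h5
  calc Nat.card (PSp 2 F) * Nat.card (spGL 2 F)
      ≤ Nat.card (PSp 2 F) * (2 * (2 * 2) * Nat.card {x : spGL 2 F // u ^ j ∣ orderOf x}) := Nat.mul_le_mul_left _ h2
    _ = 8 * (Nat.card {x : spGL 2 F // u ^ j ∣ orderOf x} * Nat.card (PSp 2 F)) := by ring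
    _ ≤ 8 * (Nat.card (prj (m := 2) (F := F) '' {x : spGL 2 F | u ^ j ∣ orderOf x} : Set (PSp 2 F)) *
        Nat.card (spGL 2 F)) := Nat.mul_le_mul_left _ h3
    _ ≤ 8 * (Nat.card (EU F u) * Nat.card (spGL 2 F)) := Nat.mul_le_mul_left _ (Nat.mul_le_mul_right _ h4)
    _ = _ := by ring

theorem miss_EU {u i : ℕ} (hu : u.Prime) (hd : u ^ i ∣ Nat.card (PSp 2 F)) (hR : ¬ u ^ i ∣ Nat.card R) :
    ∀ x ∈ R, x ∉ EU F u := by
  intro x hx hxE
  have hfin : Finite (GL (Fin 2 ⊕ Fin 2) F) := inferInstance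
  have hfinT : Finite (PSp 2 F) := Finite.of_surjective _ (prj_surjective (m := 2) (F := F))
  apply hR
  have h1 : i ≤ (Nat.card (PSp 2 F)).factorization u :=
    (hu.pow_dvd_iff_le_factorization Nat.card_pos.ne').1 hd
  have h2 : orderOf x ∣ Nat.card R := by
    rw [← Subgroup.orderOf_mk _ hx]
    exact orderOf_dvd_natCard _
  exact (pow_dvd_pow u h1).trans ((show u ^ _ ∣ orderOf x from hxE).trans h2)

/-- the primes -/
theorem pp_iff {u : ℕ} (hu : PP (Nat.card F) 4 u) : u ∈ (Nat.card F ^ 2 + 1).primeFactors.erase 2 := by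
  have hr2 : u ≠ 2 := by have := hu.lt (by omega); omega
  have h1 : u ∣ Nat.card F ^ 2 + 1 := by
    have h2 : u ∣ Nat.card F ^ 4 - 1 := (hu.dvd_iff Nat.card_pos 4).2 dvd_rfl
    have h3 : ¬ u ∣ Nat.card F ^ 2 - 1 := by
      rw [hu.dvd_iff Nat.card_pos]
      decide
    have h4 : Nat.card F ^ 4 - 1 = (Nat.card F ^ 2 - 1) * (Nat.card F ^ 2 + 1) := by
      have h5 : 1 ≤ Nat.card F ^ 2 := Nat.one_le_pow _ _ Nat.card_pos
      have h6 : Nat.card F ^ 4 = (Nat.card F ^ 2) ^ 2 := by rw [← pow_mul]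
      rw [h6]
      obtain ⟨k, hk⟩ := Nat.exists_eq_add_of_le h5
      rw [hk, show 1 + k - 1 = k by omega, show (1 + k) ^ 2 = 1 + k * (1 + k + 1) by ring]
      omega
    rw [h4] at h2
    exact (hu.prime.dvd_mul.1 h2).resolve_left h3
  rw [Finset.mem_erase, Nat.mem_primeFactors]
  exact ⟨hr2, hu.prime, h1, by omega⟩

/-- the density of the sets of elements of order divisible by `u` -/
theorem card_EU' {u : ℕ} (hu : u ∈ (Nat.card F ^ 2 + 1).primeFactors.erase 2) :
    Nat.card (PSp 2 F) ≤ 8 * Nat.card (EU F u) := by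
  rw [Finset.mem_erase, Nat.mem_primeFactors] at hu
  obtain ⟨h2, hp, hd, -⟩ := hu
  have h1 := pow_dvd_psp (F := F) (j := 1) hp h2 (by rwa [pow_one])
  rw [pow_one] at h1
  exact card_EU (pp_of_dvd hp h2 hd) h1

/-- **the sets for `PSp_4(q)`** -/
theorem nf_core (hq : 2 * B0 ≤ Fintype.card F) :
    NF (3 + ((Nat.card F ^ 2 + 1).primeFactors.erase 2).card) 128 (PSp 2 F) := by
  classical
  have hfin : Finite (GL (Fin 2 ⊕ Fin 2) F) := inferInstance
  have hfinT : Finite (PSp 2 F) := Finite.of_surjective _ (prj_surjective (m := 2) (F := F))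
  set U := (Nat.card F ^ 2 + 1).primeFactors.erase 2 with hU
  have hB : 2 * 32 ^ 32 ≤ B0 := by
    unfold B0
    omega
  have hq100 : 2 ^ 10 ≤ Fintype.card F := by
    have : 2 ^ 10 ≤ 2 * (2 * 32 ^ 32) := by norm_num
    omega
  have hlog : 4 * Nat.log 2 (Fintype.card F) + 6 ≤ Fintype.card F := by
    have h1 : 10 ≤ Nat.log 2 (Fintype.card F) := Nat.le_log_of_pow_le (by norm_num) hq100
    have h2 : 2 ^ Nat.log 2 (Fintype.card F) ≤ Fintype.card F := Nat.pow_log_le_self 2 Fintype.card_ne_zero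
    obtain ⟨k, hk⟩ := Nat.exists_eq_add_of_le h1
    rw [hk] at h2 ⊢
    have h3 : k < 2 ^ k := Nat.lt_two_pow_self
    rw [pow_add] at h2
    norm_num at h2
    omega
  have hlog0 : 0 < Nat.log 2 (Fintype.card F) := Nat.log_pos (by norm_num) (by omega)
  -- the three families
  let Q : Fin 3 → Finset (Fin 2 → F) := ![PA, PB, PC F (Nat.log 2 (Fintype.card F))]
  have hQ : ∀ i, Nat.card (PSp 2 F) ≤ 128 * Nat.card (EP (Q i)) := by
    intro i
    fin_cases i
    · exact card_EP (fun S hS h => (Finset.mem_erase.1 (mem_prs hS).2).1 h.symm) (card_PA (by omega))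
    · exact card_EP (fun S hS h => (Finset.mem_filter.1 (mem_prs hS).2).2 (by rw [h])) (card_PB (by omega))
    · exact card_EP (fun S hS h => (Finset.mem_erase.1 (mem_prs hS).2).1 h.symm) (card_PC hlog0 hlog)
  let E' : Fin 3 ⊕ U → Set (PSp 2 F) := Sum.elim (fun i => EP (Q i)) fun u => EU F u.1
  have hcard : Nat.card (Fin 3 ⊕ U) = 3 + U.card := by
    rw [Nat.card_sum, Nat.card_fin, Nat.card_eq_fintype_card, Fintype.card_coe]
  have e : Fin (3 + U.card) ≃ Fin 3 ⊕ U := (Finite.equivFinOfCardEq hcard).symm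
  refine ⟨fun i => E' (e i), fun i => ?_, fun i => ?_, fun R hR => ?_⟩
  · show CInv (E' (e i))
    rcases e i with j | u
    · exact cinv_EP (Q j)
    · exact cinv_EU (F := F) u.1
  · have h1 : Nat.card (PSp 2 F) ≤ 128 * Nat.card (E' (e i)) := by
      rcases e i with j | u
      · exact hQ j
      · exact (card_EU' u.2).trans (Nat.mul_le_mul_right _ (by norm_num))
    exact_mod_cast h1
  · -- the subgroups
    suffices h : ∃ k : Fin 3 ⊕ U, ∀ x ∈ R, x ∉ E' k by
      obtain ⟨k, hk⟩ := h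
      refine ⟨e.symm k, ?_⟩
      simp only [Equiv.apply_symm_apply]
      exact hk
    obtain ⟨M, hM, hRM⟩ := (eq_top_or_exists_le_coatom R).resolve_left hR
    by_cases hall : Hall M
    · rcases alt (fun hodd H hH hS => Cfsg.Agent.S5788.result hodd H hH hS)
        (fun heven h4 H hH hS => Cfsg.Agent.S5791.result heven h4 H hH hS) hq hM hall with h | h | h
      · exact ⟨Sum.inl 0, fun x hx => miss_EP h x (hRM hx)⟩
      · exact ⟨Sum.inl 1, fun x hx => miss_EP h x (hRM hx)⟩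
      · exact ⟨Sum.inl 2, fun x hx => miss_EP h x (hRM hx)⟩
    · unfold Hall at hall
      push Not at hall
      obtain ⟨u, j, hu, hj, h1, h2⟩ := hall
      exact ⟨Sum.inr ⟨u, pp_iff hu⟩, fun x hx => miss_EU hu.prime h1 h2 x (hRM hx)⟩

/-! ### The family -/

theorem NF_mono {n : ℕ} {w w' : ℝ} (hw : w ≤ w') {T : Type*} [Group T] (h : NF n w T) : NF n w' T := by
  obtain ⟨E, h1, h2, h3⟩ := h
  exact ⟨E, h1, fun i => (h2 i).trans (mul_le_mul_of_nonneg_right hw (Nat.cast_nonneg _)), h3⟩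

theorem NF_congr {n : ℕ} {w : ℝ} {T T' : Type*} [Group T] [Group T'] (e : T ≃* T') (h : NF n w T') : NF n w T := by
  obtain ⟨E, h1, h2, h3⟩ := h
  refine ⟨fun i => e ⁻¹' E i, fun i x hx g => ?_, fun i => ?_, fun R hR => ?_⟩
  · show e (g * x * g⁻¹) ∈ E i
    rw [map_mul, map_mul, map_inv]
    exact h1 i _ hx _
  · have e1 : Nat.card (e ⁻¹' E i) = Nat.card (E i) :=
      Nat.card_congr (e.toEquiv.subtypeEquiv fun _ => Iff.rfl)
    rw [Nat.card_congr e.toEquiv, e1]
    exact h2 i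
  · obtain ⟨i, hi⟩ := h3 (R.map e.toMonoidHom) (fun h => hR (by
      rw [eq_top_iff]
      intro x _
      have h4 : e x ∈ R.map e.toMonoidHom := by rw [h]; exact Subgroup.mem_top _
      obtain ⟨y, hy, hyx⟩ := h4
      have : y = x := e.injective hyx
      rwa [← this]))
    exact ⟨i, fun x hx => hi (e x) ⟨x, hx, rfl⟩⟩

/-- the number of primes -/
theorem card_primes_le (n : ℕ) (hn : n ≠ 0) : n.primeFactors.card ≤ Nat.log 2 n := by
  apply Nat.le_log_of_pow_le (by norm_num)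
  calc 2 ^ n.primeFactors.card = ∏ _p ∈ n.primeFactors, 2 := by rw [Finset.prod_const]
    _ ≤ ∏ p ∈ n.primeFactors, p := Finset.prod_le_prod' fun p hp => (Nat.prime_of_mem_primeFactors hp).two_le
    _ ≤ n := Nat.le_of_dvd (Nat.pos_of_ne_zero hn) (Nat.prod_primeFactors_dvd n)

/-- the order -/
theorem le_card_psp : Nat.card F ^ 2 + 1 ≤ Nat.card (PSp 2 F) := by
  have hfin : Finite (GL (Fin 2 ⊕ Fin 2) F) := inferInstance
  have h1 := card_ker (m := 2) (F := F)
  have h2 := Nat.le_of_dvd (by norm_num) (card_ker_dvd (m := 2) (F := F) (by norm_num))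
  have h3 := card_sp4 (F := F)
  have hq : 2 ≤ Nat.card F := by rw [Nat.card_eq_fintype_card]; exact Fintype.one_lt_card
  set q := Nat.card F with hqd
  have h4 : 2 ≤ q ^ 4 * (q ^ 2 - 1) ^ 2 := by
    have h5 : 1 ≤ q ^ 2 - 1 := by
      have : 4 ≤ q ^ 2 := by nlinarith
      omega
    have h6 : 2 ≤ q ^ 4 := by
      calc 2 ≤ q := hq
        _ ≤ q ^ 4 := Nat.le_self_pow (by norm_num) q
    calc 2 = 2 * 1 := rfl
      _ ≤ q ^ 4 * (q ^ 2 - 1) ^ 2 := Nat.mul_le_mul h6 (Nat.one_le_pow _ _ h5)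
  have h5 : 2 * (q ^ 2 + 1) ≤ Nat.card (spGL 2 F) := by
    rw [h3]
    exact Nat.mul_le_mul_right _ h4
  rw [← h1] at h5
  have h6 : 2 * (q ^ 2 + 1) ≤ 2 * Nat.card (PSp 2 F) := h5.trans (Nat.mul_le_mul_right _ h2)
  exact Nat.le_of_mul_le_mul_left h6 (by norm_num)

theorem card_psp_le : Nat.card (PSp 2 F) ≤ Fintype.card F ^ 16 := by
  have hfin : Finite (GL (Fin 2 ⊕ Fin 2) F) := inferInstance
  have h2 : Nat.card (PSp 2 F) ≤ Nat.card (spGL 2 F) :=
    Nat.card_le_card_of_surjective _ (prj_surjective (m := 2) (F := F))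
  have h3 : Nat.card (spGL 2 F) ≤ Nat.card (Matrix I4 I4 F) :=
    Nat.card_le_card_of_injective (fun g : spGL 2 F => ((g : GL I4 F) : Matrix I4 I4 F)) fun a b h =>
      Subtype.ext (Units.ext h)
  have h4 : Nat.card (Matrix I4 I4 F) = Fintype.card F ^ 16 := by
    change Nat.card (I4 → I4 → F) = _
    rw [Nat.card_fun, Nat.card_fun, Nat.card_eq_fintype_card, Nat.card_eq_fintype_card, ← pow_mul]
    rfl
  rw [h4] at h3
  exact h2.trans h3

/-- **[R4]** -/
theorem nf_psp4 : FamNF (fun g => ∃ q, g = .psp 2 q) := by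
  refine ⟨128, (2 * B0) ^ 16 + 1, by norm_num, ?_⟩
  rintro _ T _ _ _ hT ⟨q, rfl⟩ hD
  obtain ⟨F, _, _, hFq, ⟨e⟩⟩ := hT.real
  have hTc : Nat.card T = Nat.card (PSp 2 F) := Nat.card_congr e.toEquiv
  have hq : 2 * B0 ≤ Fintype.card F := by
    by_contra hcon
    have h1 := card_psp_le (F := F)
    have h2 : Fintype.card F ^ 16 ≤ (2 * B0) ^ 16 := Nat.pow_le_pow_left (by omega) 16
    omega
  have hlow := le_card_psp (F := F)
  have hcp := card_primes_le (Nat.card F ^ 2 + 1) (by omega)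
  have her := Finset.card_erase_le (s := (Nat.card F ^ 2 + 1).primeFactors) (a := 2)
  have hq2 : 2 ≤ Nat.card F := by rw [Nat.card_eq_fintype_card]; exact Fintype.one_lt_card
  -- `log 2 (q ^ 2 + 1) ≤ 2 lg T`
  have hpos : (0 : ℝ) < Nat.card T := by rw [hTc]; exact_mod_cast (by omega : 0 < Nat.card (PSp 2 F))
  have h3 : (3 : ℝ) ≤ Nat.card T := by
    rw [hTc]
    exact_mod_cast (by nlinarith : 3 ≤ Nat.card (PSp 2 F))
  have hl1 : 1 ≤ lg T := by
    unfold lg
    rw [Real.le_log_iff_exp_le hpos]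
    exact (Real.exp_one_lt_d9.le.trans (by norm_num)).trans h3
  have hl2 : ((((Nat.card F ^ 2 + 1).primeFactors.erase 2).card : ℕ) : ℝ) ≤ 2 * lg T := by
    have h5 : ((2 : ℝ)) ^ (((Nat.card F ^ 2 + 1).primeFactors.erase 2).card) ≤ Nat.card T := by
      have h6 : 2 ^ (((Nat.card F ^ 2 + 1).primeFactors.erase 2).card) ≤ Nat.card T := by
        calc 2 ^ (((Nat.card F ^ 2 + 1).primeFactors.erase 2).card)
            ≤ 2 ^ Nat.log 2 (Nat.card F ^ 2 + 1) := Nat.pow_le_pow_right (by norm_num) (her.trans hcp)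
          _ ≤ Nat.card F ^ 2 + 1 := Nat.pow_log_le_self 2 (by omega)
          _ ≤ Nat.card T := by rw [hTc]; exact hlow
      exact_mod_cast h6
    have h6 := Real.log_le_log (by positivity) h5
    rw [Real.log_pow] at h6
    have h7 : (1 : ℝ) / 2 ≤ Real.log 2 := by
      have := Real.log_two_gt_d9
      linarith
    have h8 : (0 : ℝ) ≤ (((Nat.card F ^ 2 + 1).primeFactors.erase 2).card : ℝ) := Nat.cast_nonneg _
    unfold lg
    nlinarith
  refine ⟨3 + ((Nat.card F ^ 2 + 1).primeFactors.erase 2).card, ?_, ?_⟩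
  · push_cast
    linarith
  · exact NF_mono (by linarith) (NF_congr e (nf_core hq))

end Cfsg.Agent.H948.Rg
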