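import Cfsg.Agent.H618.Dp.Main
import Cfsg.Agent.S5788
import Cfsg.Agent.S5791

/-!
# S5714, `PSp_4(q)`: every maximal subgroup misses one of the normal sets
-/

set_option autoImplicit false

namespace Cfsg.Agent.H948.Rg

open Cfsg Cfsg.Geo
open Cfsg.Agent.H618.Dp
open Cfsg.Agent.ClassicalGeometry.SympBasic Cfsg.Agent.H876 Cfsg.Agent.H931
open Cfsg.Agent.H262.El (pre mem_pre pre_le pre_ne spToGL_injective not_le_of_irr selfAdjoint_of_irr mem_isometry
  totallySingular_ne_top)
open Cfsg.Agent.H884.El (PP)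
open scoped Matrix MatrixGroups

variable {F : Type} [Field F] [Fintype F] {R : Subgroup (PSp 2 F)}

/-- no conjugate of the elements `X S`, `S ∈ P`, lies in the preimage of `R` -/
def MissP (P : Finset (Fin 2 → F)) (R : Subgroup (PSp 2 F)) : Prop :=
  ∀ S ∈ P, ∀ g : spGL 2 F, (g * XS S * g⁻¹ : spGL 2 F).1 ∉ pre R

/-- **Fields.** -/
theorem case_field [DecidableEq F] {K : Subalgebra F (Matrix I4 I4 F)} (hK : IsFieldSubalgebra 2 K)
    (h0 : ∀ k ∈ K, ∀ v, sympForm 2 F (k *ᵥ v) v = 0) (hH : pre R ≤ subalgebraNormalizer K) :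
    MissP PB R := by
  classical
  intro S hS g hg
  rw [coe_conj] at hg
  exact avoid_field hK h0 (Finset.mem_filter.1 (mem_prs hS).2).2 g.2 (hH hg)

/-- **Orthogonal groups.** -/
theorem case_quad [DecidableEq F] (hq : 10 ≤ Fintype.card F) (hall : Hall R) {Q : (I4 → F) → F} (hQ : IsNondegenerateQuadraticForm Q)
    (hpol : ∀ u v, QuadraticMap.polar Q u v = sympForm 2 F u v) (hH : pre R ≤ isometryGroup F Q) :
    MissP PA R := by
  classical
  obtain ⟨r, hr⟩ := Cfsg.Agent.H884.El.exists_pp (q := Nat.card F) (e := 4) (by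
    rw [Nat.card_eq_fintype_card]; omega) (by norm_num) (by rintro ⟨-, h⟩; omega)
  intro S hS g hg
  · rw [coe_conj] at hg
    obtain ⟨h1, h2⟩ := mem_prs hS
    have key : ∀ i : Fin 2, ∃ β : F, β ^ 2 + 1 = S i * β ∧ β ^ 2 ≠ 1 := by
      intro i
      have h3 : S i ∈ SS := by
        fin_cases i
        · exact h1
        · exact (Finset.mem_erase.1 h2).2
      obtain ⟨β, hβ, hβS⟩ := Finset.mem_image.1 h3
      obtain ⟨hβ0, hβ1⟩ := (Finset.mem_filter.1 hβ).2
      refine ⟨β, ?_, hβ1⟩
      rw [← hβS]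
      field_simp
    choose β hβ1 hβ2 using key
    exact avoid_quad hQ hpol hH hr (hall.hits hr) hβ1 hβ2 g.2 hg

/-- **Suzuki groups.** -/
theorem case_sz [DecidableEq F] {n : ℕ} (heven : Even (Fintype.card F))
    (hR : Nat.card R ∣ n * (Fintype.card F ^ 2 * (Fintype.card F - 1) * (Fintype.card F ^ 2 + 1))) :
    MissP (PC F n) R := by
  classical
  intro S hS g hg
  · rw [coe_conj] at hg
    obtain ⟨α, ha1, ha2, ha3⟩ := (Finset.mem_filter.1 (mem_prs hS).1).2
    apply ha3
    set q := Fintype.card F with hqdef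
    set N := Nat.card (pre R) with hN
    -- `X ^ N = 1`
    have hfin : Finite (GL I4 F) := inferInstance
    have h1 : (X S : GL I4 F) ^ N = 1 := by
      have h2 : ((g : GL I4 F) * X S * (g : GL I4 F)⁻¹) ^ N = 1 := by
        have h3 := pow_card_eq_one' (x := (⟨_, hg⟩ : pre R))
        exact congrArg Subtype.val h3
      rw [conj_pow] at h2
      have h3 := mul_inv_eq_one.1 h2
      exact mul_eq_left.1 h3
    have h2 : α ^ N = 1 := pow_eq_one_ext (algebraMap F (AlgebraicClosure F)) ha1 h1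
    -- `N ∣ n * (...)`
    have hq1 : 1 ≤ q := Fintype.card_pos
    have hker : Nat.card (prj (m := 2) (F := F)).ker = 1 := by
      have h3 := card_ker_dvd (m := 2) (F := F) (by norm_num)
      rcases (Nat.dvd_prime Nat.prime_two).1 h3 with h4 | h4
      · exact h4
      · exfalso
        -- the kernel is the centre, of order `gcd(2, q - 1) = 1`
        have h5 : Nat.card (prj (m := 2) (F := F)).ker =
            Nat.card (Subgroup.center (Matrix.symplecticGroup (Fin 2) F)) := by
          refine Nat.card_congr ⟨fun x => ⟨(eSp (m := 2) (F := F)).symm x.1, ?_⟩, fun A => ⟨eSp A.1, ?_⟩,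
            fun x => ?_, fun A => ?_⟩
          · have h2 := x.2
            rw [MonoidHom.mem_ker] at h2
            exact (QuotientGroup.eq_one_iff _).1 h2
          · rw [MonoidHom.mem_ker, prj_eSp]
            exact (QuotientGroup.eq_one_iff _).2 A.2
          · exact Subtype.ext (MulEquiv.apply_symm_apply _ _)
          · exact Subtype.ext (MulEquiv.symm_apply_apply _ _)
        rw [h5, Cfsg.Agent.S0246.result (q := Fintype.card F) rfl 2 (by norm_num)] at h4
        have h6 : 2 ∣ q - 1 := h4 ▸ Nat.gcd_dvd_right _ _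
        obtain ⟨k, hk⟩ := heven
        omega
    have hNd : N ∣ n * (q ^ 2 * (q - 1) * (q ^ 2 + 1)) := by
      rw [hN, card_pre, hker, mul_one]
      exact hR
    -- coprimality
    have hodd : Odd (q + 1) := heven.add_one
    have c1 : Nat.Coprime (q + 1) q := by
      rw [Nat.coprime_comm]
      exact (Nat.coprime_self_add_right (m := q) (n := 1)).2 (Nat.coprime_one_right q)
    have c2 : Nat.Coprime (q + 1) (q - 1) := by
      have h3 : (q + 1).gcd (q - 1) ∣ 2 := by
        have h4 := Nat.dvd_sub (Nat.gcd_dvd_left (q + 1) (q - 1)) (Nat.gcd_dvd_right (q + 1) (q - 1))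
        rwa [show q + 1 - (q - 1) = 2 by omega] at h4
      rcases (Nat.dvd_prime Nat.prime_two).1 h3 with h4 | h4
      · exact h4
      · exfalso
        have h5 : 2 ∣ q + 1 := h4 ▸ Nat.gcd_dvd_left _ _
        exact (Nat.not_even_iff_odd.2 hodd) (even_iff_two_dvd.2 h5)
    have c3 : Nat.Coprime (q + 1) (q ^ 2 + 1) := by
      have h3 : (q + 1).gcd (q ^ 2 + 1) ∣ 2 := by
        have h4 : (q + 1).gcd (q ^ 2 + 1) ∣ (q + 1) * (q - 1) := (Nat.gcd_dvd_left _ _).mul_right _
        have h5 := Nat.dvd_sub (Nat.gcd_dvd_right (q + 1) (q ^ 2 + 1)) h4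
        have h6 : q ^ 2 + 1 - (q + 1) * (q - 1) = 2 := by
          obtain ⟨k, hk⟩ := Nat.exists_eq_add_of_le hq1
          rw [hk, show 1 + k - 1 = k by omega, show (1 + k) ^ 2 + 1 = (1 + k + 1) * k + 2 by ring]
          omega
        rwa [h6] at h5
      rcases (Nat.dvd_prime Nat.prime_two).1 h3 with h4 | h4
      · exact h4
      · exfalso
        have h5 : 2 ∣ q + 1 := h4 ▸ Nat.gcd_dvd_left _ _
        exact (Nat.not_even_iff_odd.2 hodd) (even_iff_two_dvd.2 h5)
    have c4 : Nat.Coprime (q + 1) (q ^ 2 * (q - 1) * (q ^ 2 + 1)) :=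
      Nat.Coprime.mul_right (Nat.Coprime.mul_right (Nat.Coprime.pow_right 2 c1) c2) c3
    have h3 : orderOf α ∣ q + 1 := orderOf_dvd_of_pow_eq_one ha2
    have h4 : orderOf α ∣ n * (q ^ 2 * (q - 1) * (q ^ 2 + 1)) := (orderOf_dvd_of_pow_eq_one h2).trans hNd
    exact orderOf_dvd_iff_pow_eq_one.1 ((Nat.Coprime.coprime_dvd_left h3 c4).dvd_of_dvd_mul_right h4)

/-- **The maximal subgroups of `PSp_4(q)`, `q` large.** -/
theorem alt [DecidableEq F] (h88 : ResOdd) (h91 : ResEven) (hq : 2 * B0 ≤ Fintype.card F) (hR : IsCoatom R)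
    (hall : Hall R) :
    MissP PA R ∨ MissP PB R ∨ MissP (PC F (Nat.log 2 (Fintype.card F))) R := by
  classical
  have hfin : Finite (GL I4 F) := inferInstance
  have hB : 2 * 32 ^ 32 ≤ B0 := by
    unfold B0
    omega
  have hq10 : 100 ≤ Fintype.card F := by
    have : 100 ≤ 2 * (2 * 32 ^ 32) := by norm_num
    omega
  have hmax := isMaximalIn_pre hR
  have hle := pre_le R
  -- the irreducible prime
  obtain ⟨p, f, hp, hf, hpF⟩ := Cfsg.Agent.H884.El.exists_char F
  have hpF' : Fintype.card F = p ^ f := by rw [← hpF, Nat.card_eq_fintype_card]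
  obtain ⟨r, hr⟩ := Cfsg.Agent.H163.PG.exists_ppd (p := p) (f := f) (k := 2 * 2) hp.two_le
    (by omega) (by rintro ⟨-, h6⟩; omega)
  have hod : Cfsg.Agent.H262.El.Od (Fintype.card F) (2 * 2) r := by
    rw [hpF']
    exact Cfsg.Agent.H262.El.Od.of_ppd hp hf (by omega) hr
  have hrq : PP (Nat.card F) (2 * 2) r := Cfsg.Agent.H262.El.pp_of_od hod
  have hrH : r ∣ Nat.card (pre R) := hall.hits hrq
  obtain ⟨k1, k2, k5, -⟩ := not_le_of_irr (m := 2) le_rfl hp hf hpF' hr hrH
  obtain ⟨g, hgH, hgr, hg1⟩ : ∃ g ∈ pre R, g ^ r = 1 ∧ g ≠ 1 := by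
    have := Fact.mk hod.prime
    obtain ⟨g, hg⟩ := exists_prime_orderOf_dvd_card' r hrH
    refine ⟨g, g.2, ?_, ?_⟩
    · rw [← Subgroup.coe_pow, ← hg, pow_orderOf_eq_one]; rfl
    · intro h1
      have hg2 : g = 1 := Subtype.ext h1
      rw [hg2, orderOf_one] at hg
      exact hod.prime.one_lt.ne hg
  by_cases hodd : Odd (Fintype.card F)
  · rcases S5787.result hodd (pre R) hmax with h | h | h | h | h | h | h | h
    · obtain ⟨W, hW0, hW, hH⟩ := h
      exact absurd (hH.le.trans inf_le_left) (k1 W hW0 (totallySingular_ne_top (by norm_num) hW))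
    · obtain ⟨D, hD, hH⟩ := h
      exact absurd (hH.le.trans inf_le_left) (k2 _ _ D hD.decomp)
    · obtain ⟨-, D, hD, -, hH⟩ := h
      exact absurd (hH.le.trans inf_le_left) (k2 _ _ D hD)
    · obtain ⟨K, hK, -, h0, hH⟩ := h
      exact Or.inr (Or.inl (case_field hK h0 (hH.le.trans inf_le_left)))
    · obtain ⟨-, K, hK, -, hns, hH⟩ := h
      exfalso
      refine hns (selfAdjoint_of_irr (m := 2) (by decide) (by norm_num) (hle hgH) hrq hgr hg1 hK ?_)
      exact (hH.le.trans inf_le_left) hgH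
    · obtain ⟨F₀, s, P, ζ, hs, hcard, -, -, hH⟩ := h
      exact absurd (hH.le.trans inf_le_left) (k5 F₀ s P hs hcard)
    · obtain ⟨p', R₀, -, -, -, habs, -, hc, -, -, hH⟩ := h
      exfalso
      have h1 := card_symp_le habs hc (hH.le.trans inf_le_left) hle
      have h2 : Nat.card R ≤ Nat.card (pre R) := by
        rw [card_pre]
        exact Nat.le_mul_of_pos_right _ Nat.card_pos
      exact small_false hall (h2.trans (h1.trans hB)) hq
    · obtain ⟨P, p', hP, -, -, h | h | h⟩ := h88 hodd (pre R) hmax h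
      · exfalso
        obtain ⟨⟨e⟩, -⟩ := h
        have h1 := Nat.le_of_dvd Nat.card_pos (dvd_of_core hP e).2
        exact small_false hall (h1.trans (by unfold B0; omega)) hq
      · exfalso
        obtain ⟨⟨e⟩, -⟩ := h
        have h1 := Nat.le_of_dvd Nat.card_pos (dvd_of_core hP e).2
        exact small_false hall (h1.trans (by unfold B0; omega)) hq
      · exfalso
        obtain ⟨⟨e⟩, -⟩ := h
        exact case_psl (by omega) hall (dvd_of_core hP e).1
  · rcases S5790.result hodd (by omega) (pre R) hmax with h | h | h | h | h | h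
    · obtain ⟨W, hW0, hW, hH⟩ := h
      exact absurd (hH.le.trans inf_le_left) (k1 W hW0 (totallySingular_ne_top (by norm_num) hW))
    · obtain ⟨D, hD, hH⟩ := h
      exact absurd (hH.le.trans inf_le_left) (k2 _ _ D hD.decomp)
    · obtain ⟨K, hK, -, h0, hH⟩ := h
      exact Or.inr (Or.inl (case_field hK h0 (hH.le.trans inf_le_left)))
    · obtain ⟨F₀, s, P, ζ, hs, hcard, -, -, hH⟩ := h
      exact absurd (hH.le.trans inf_le_left) (k5 F₀ s P hs hcard)
    · obtain ⟨Q, hQ, hpol, hH⟩ := h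
      refine Or.inl (case_quad (by omega) hall hQ hpol fun x hx => ?_)
      have h1 := hH.le hx
      exact mem_isometry (by norm_num) hpol h1.1 h1.2
    · obtain ⟨P, m, hP, hm, hF, ⟨e⟩⟩ := h91 hodd (by omega) (pre R) hmax h
      have h1 := (dvd_of_core hP e).1
      rw [S2126.result hm hF, (S1163.result hm hF).1, ← hF] at h1
      right; right
      have h2 : Nat.log 2 (Fintype.card F) = 2 * m + 1 := by
        rw [hF, Nat.log_pow (by norm_num)]
      rw [h2]
      exact case_sz (n := 2 * m + 1) (Nat.not_odd_iff_even.1 hodd) h1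

end Cfsg.Agent.H948.Rg
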